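import Cfsg.Agent.Fischer.Fi22Order
import Cfsg.Agent.H940.MaxCls

/-!
# Subgroups of `Fi22` and the 3510 points (helper89)

`S K` : the points whose transposition lies in `K`. If `K ≠ ⊤` contains a subgroup `A` then `S K` is a union of orbits of
`A`; the orbit lengths of `A` on the points restrict `|S K|`. `apart_of_lists` : two subgroups with disjoint lists are apart.
-/

set_option autoImplicit false
set_option maxRecDepth 100000

namespace Cfsg.Agent.H89.Fi22Pts

open Cfsg.Spor Cfsg.Spor.Fi22 Cfsg.Agent.Lib.PermNet Cfsg.Agent.Lib.PermNetOrbit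
open Cfsg.Agent.Fischer.Fi22PtsRep Cfsg.Agent.Fischer.Fi22Order Cfsg.Agent.H940.MaxCls
open Subgroup

/-- the points whose transposition lies in `K` -/
def S (K : Subgroup Spor.Fi22) : Set ℕ := {p | ∃ g : Spor.Fi22, φ g 0 = p ∧ g * gen .a * g⁻¹ ∈ K}

variable {K A B : Subgroup Spor.Fi22}

theorem S_lt {p : ℕ} (hp : p ∈ S K) : p < 3510 := by
  obtain ⟨g, rfl, -⟩ := hp
  exact φ_lt g (by norm_num)

theorem S_iff (g : Spor.Fi22) : φ g 0 ∈ S K ↔ g * gen .a * g⁻¹ ∈ K := by
  constructor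
  · rintro ⟨h, h1, h2⟩
    have h3 : φ (h⁻¹ * g) 0 = 0 := by
      rw [map_mul, Equiv.Perm.mul_apply, ← h1, map_inv]
      simp
    have h4 := stab_comm h3
    have h5 : g * gen .a * g⁻¹ = h * gen .a * h⁻¹ := by
      calc g * gen .a * g⁻¹ = h * (h⁻¹ * g * gen .a) * g⁻¹ := by group
        _ = h * (gen .a * (h⁻¹ * g)) * g⁻¹ := by rw [h4]
        _ = h * gen .a * h⁻¹ := by group
    rw [h5]
    exact h2
  · intro h
    exact ⟨g, rfl, h⟩

theorem S_inv {k : Spor.Fi22} (hk : k ∈ K) {p : ℕ} (hp : p ∈ S K) : φ k p ∈ S K := by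
  obtain ⟨g, rfl, h⟩ := hp
  rw [← Equiv.Perm.mul_apply, ← map_mul, S_iff]
  have : k * g * gen .a * (k * g)⁻¹ = k * (g * gen .a * g⁻¹) * k⁻¹ := by group
  rw [this]
  exact K.mul_mem (K.mul_mem hk h) (K.inv_mem hk)

theorem S_mono (h : A ≤ K) : S A ⊆ S K := by
  rintro p ⟨g, rfl, h1⟩
  exact ⟨g, rfl, h h1⟩

theorem S_finite : (S K).Finite := (Set.finite_Iio 3510).subset fun _ hp => S_lt hp

/-- a proper subgroup does not contain all the transpositions -/
theorem S_ncard_lt (hK : K ≠ ⊤) : (S K).ncard < 3510 := by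
  by_contra hlt
  push Not at hlt
  have h0 : (Set.Iio 3510 : Set ℕ).ncard = 3510 := by
    rw [Set.ncard_eq_toFinset_card' (Set.Iio 3510)]; simp
  have h1 : S K = Set.Iio 3510 :=
    Set.eq_of_subset_of_ncard_le (fun p hp => S_lt hp) (by rw [h0]; exact hlt) (Set.finite_Iio 3510)
  apply hK
  rw [eq_top_iff, ← normalClosure_a]
  apply Subgroup.closure_le K |>.2
  intro x hx
  rw [Group.mem_conjugatesOfSet_iff] at hx
  obtain ⟨y, hy, hxy⟩ := hx
  rw [Set.mem_singleton_iff] at hy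
  subst hy
  obtain ⟨g, rfl⟩ := isConj_iff.1 hxy
  rw [SetLike.mem_coe, ← S_iff, h1]
  exact φ_lt g (by norm_num)

/-- the conjugate subgroup -/
theorem S_conj (g : Spor.Fi22) : (S (K.map (MulAut.conj g).toMonoidHom)).ncard = (S K).ncard := by
  have h1 : S (K.map (MulAut.conj g).toMonoidHom) = (φ g) '' S K := by
    ext p
    constructor
    · rintro ⟨h, rfl, h1⟩
      rw [mem_map_conj] at h1
      refine ⟨φ (g⁻¹ * h) 0, ⟨g⁻¹ * h, rfl, ?_⟩, ?_⟩
      · have : g⁻¹ * h * gen .a * (g⁻¹ * h)⁻¹ = g⁻¹ * (h * gen .a * h⁻¹) * g := by group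
        rw [this]
        exact h1
      · rw [map_mul, Equiv.Perm.mul_apply, map_inv]
        simp
    · rintro ⟨_, ⟨h, rfl, h1⟩, rfl⟩
      refine ⟨g * h, by rw [map_mul, Equiv.Perm.mul_apply], ?_⟩
      rw [mem_map_conj]
      have : g⁻¹ * (g * h * gen .a * (g * h)⁻¹) * g = h * gen .a * h⁻¹ := by group
      rw [this]
      exact h1
  rw [h1, Set.ncard_image_of_injective _ (φ g).injective]

/-- all proper overgroups `K` of `A` have `|S K| ∈ L` -/
def Prof (A : Subgroup Spor.Fi22) (L : List ℕ) : Prop := ∀ K : Subgroup Spor.Fi22, A ≤ K → K ≠ ⊤ → (S K).ncard ∈ L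

theorem conj_le {g : Spor.Fi22} (h : ∀ x ∈ B, g * x * g⁻¹ ∈ K) : B ≤ K.map (MulAut.conj g⁻¹).toMonoidHom := by
  intro x hx
  rw [mem_map_conj, inv_inv]
  exact h x hx

theorem conj_ne_top {g : Spor.Fi22} (h : K ≠ ⊤) : K.map (MulAut.conj g).toMonoidHom ≠ ⊤ := by
  intro h1
  apply h
  rw [eq_top_iff]
  intro x _
  have h2 : g * x * g⁻¹ ∈ K.map (MulAut.conj g).toMonoidHom := by rw [h1]; exact mem_top _
  rw [mem_map_conj] at h2
  have h3 : g⁻¹ * (g * x * g⁻¹) * g = x := by group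
  rwa [h3] at h2

/-- **disjoint lists** -/
theorem apart_of_lists {L M : List ℕ} (hA : Prof A L) (hB : Prof B M) (h : ∀ x ∈ L, x ∉ M) : Apart A B := by
  intro g K h1 h2
  by_contra hK
  have h3 := hA K h1 hK
  have h4 := hB _ (conj_le h2) (conj_ne_top hK)
  rw [S_conj] at h4
  exact h _ h3 h4

/-! ### Invariant sets -/

open Classical in
/-- the number of points of an invariant set -/
theorem ncard_inv {L : List (List Gen)} (hA : ∀ w ∈ L, wd w ∈ A) (D : List (ℕ × ℕ × ℕ))
    (hpc : ∀ t ∈ D, (bits (2 ^ 12) (sat (nws L) t.2.1 (2 ^ t.1))).card = t.2.2)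
    (hcov : ∀ p < 3510, ∃ t ∈ D, (sat (nws L) t.2.1 (2 ^ t.1)).testBit p = true)
    (hsum : (D.map fun t => t.2.2).sum = 3510) {Y : Set ℕ} (hY : ∀ p ∈ Y, p < 3510)
    (hinv : ∀ g ∈ A, ∀ p ∈ Y, φ g p ∈ Y) :
    Y.ncard = (D.map fun t => if t.1 ∈ Y then t.2.2 else 0).sum := by
  -- the points of the saturation
  have key : ∀ t : ℕ × ℕ × ℕ, ∀ p, (sat (nws L) t.2.1 (2 ^ t.1)).testBit p = true → ∃ g ∈ A, φ g t.1 = p := by
    intro t p hp
    obtain ⟨_, ⟨g, hg, rfl⟩, hg'⟩ := sat_point_spec (K := A.map φ) (nws_ok L) (by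
      intro w hw
      obtain ⟨v, hv, rfl⟩ := List.mem_map.1 hw
      exact ⟨wd v, hA v hv, φ_wd v⟩) t.2.1 hp
    exact ⟨g, hg, hg'⟩
  have hiff : ∀ t : ℕ × ℕ × ℕ, ∀ p, (sat (nws L) t.2.1 (2 ^ t.1)).testBit p = true → (p ∈ Y ↔ t.1 ∈ Y) := by
    intro t p hp
    obtain ⟨g, hg, rfl⟩ := key t p hp
    constructor
    · intro h
      have h1 := hinv g⁻¹ (A.inv_mem hg) _ h
      rwa [← Equiv.Perm.mul_apply, ← map_mul, inv_mul_cancel, map_one, Equiv.Perm.one_apply] at h1
    · exact hinv g hg _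
  -- union bounds
  have hbound : ∀ (Z : Set ℕ) (hZ : ∀ p ∈ Z, p < 3510)
      (hZi : ∀ t : ℕ × ℕ × ℕ, ∀ p, (sat (nws L) t.2.1 (2 ^ t.1)).testBit p = true → p ∈ Z → t.1 ∈ Z),
      Z.ncard ≤ (D.map fun t => if t.1 ∈ Z then t.2.2 else 0).sum := by
    intro Z hZ hZi
    have h1 : ∀ (E : List (ℕ × ℕ × ℕ)), (∀ t ∈ E, t ∈ D) → ∀ W : Set ℕ, (∀ p ∈ W, p ∈ Z ∧ ∃ t ∈ E, (sat (nws L) t.2.1 (2 ^ t.1)).testBit p = true) →
        W.ncard ≤ (E.map fun t => if t.1 ∈ Z then t.2.2 else 0).sum := by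
      intro E
      induction E with
      | nil =>
        intro _ W hW
        have : W = ∅ := by
          ext p
          constructor
          · intro hp
            obtain ⟨_, t, ht, _⟩ := hW p hp
            exact absurd ht List.not_mem_nil
          · intro hp; exact absurd hp (Set.notMem_empty p)
        rw [this, Set.ncard_empty]
        exact Nat.zero_le _
      | cons t E ih =>
        intro hE W hW
        rw [List.map_cons, List.sum_cons]
        set W1 : Set ℕ := {p | p ∈ W ∧ (sat (nws L) t.2.1 (2 ^ t.1)).testBit p = true} with hW1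
        set W2 : Set ℕ := {p | p ∈ W ∧ ¬ (sat (nws L) t.2.1 (2 ^ t.1)).testBit p = true} with hW2
        have hu : W = W1 ∪ W2 := by
          ext p
          constructor
          · intro hp
            by_cases h : (sat (nws L) t.2.1 (2 ^ t.1)).testBit p = true
            · exact Or.inl ⟨hp, h⟩
            · exact Or.inr ⟨hp, h⟩
          · rintro (hp | hp) <;> exact hp.1
        have h2 : W1.ncard ≤ if t.1 ∈ Z then t.2.2 else 0 := by
          split_ifs with hz
          · rw [← hpc t (hE t List.mem_cons_self), ← Set.ncard_coe_finset]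
            refine Set.ncard_le_ncard (fun p hp => ?_) (Finset.finite_toSet _)
            rw [Finset.mem_coe, mem_bits]
            exact ⟨(hZ p (hW p hp.1).1).trans (by norm_num), hp.2⟩
          · have : W1 = ∅ := by
              ext p
              constructor
              · intro hp
                exact absurd (hZi t p hp.2 (hW p hp.1).1) hz
              · intro hp; exact absurd hp (Set.notMem_empty p)
            rw [this, Set.ncard_empty]
        have h3 := ih (fun s hs => hE s (List.mem_cons_of_mem _ hs)) W2 (by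
          intro p hp
          obtain ⟨h4, s, hs, h5⟩ := hW p hp.1
          refine ⟨h4, ?_⟩
          rcases List.mem_cons.1 hs with rfl | hs
          · exact absurd h5 hp.2
          · exact ⟨s, hs, h5⟩)
        calc W.ncard ≤ W1.ncard + W2.ncard := by rw [hu]; exact Set.ncard_union_le _ _
          _ ≤ _ := Nat.add_le_add h2 h3
    exact h1 D (fun t ht => ht) Z fun p hp => ⟨hp, hcov p (hZ p hp)⟩
  have hYb := hbound Y hY fun t p hp h => (hiff t p hp).1 h
  obtain ⟨Z, hZdef⟩ : ∃ Z : Set ℕ, Z = Set.Iio 3510 \ Y := ⟨_, rfl⟩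
  have hZm : ∀ p, p ∈ Z ↔ p < 3510 ∧ p ∉ Y := fun p => by rw [hZdef]; exact Iff.rfl
  have hZb := hbound Z (fun p hp => ((hZm p).1 hp).1) fun t p hp h => by
    rw [hZm] at h ⊢
    by_cases ht : t.1 < 3510
    · exact ⟨ht, fun h1 => h.2 ((hiff t p hp).2 h1)⟩
    · exfalso
      obtain ⟨g, hg, rfl⟩ := key t p hp
      have h1 := φ_lt g⁻¹ h.1
      rw [← Equiv.Perm.mul_apply, ← map_mul, inv_mul_cancel, map_one, Equiv.Perm.one_apply] at h1
      exact ht h1
  have hYs : Y ⊆ Set.Iio 3510 := fun p hp => hY p hp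
  have h3510 : (Set.Iio 3510 : Set ℕ).ncard = 3510 := by
    rw [Set.ncard_eq_toFinset_card' (Set.Iio 3510)]; simp
  have htot : Y.ncard + Z.ncard = 3510 := by
    rw [← h3510, hZdef, add_comm]
    exact Set.ncard_sdiff_add_ncard_of_subset hYs (Set.finite_Iio 3510)
  have hsum2 : (D.map fun t => if t.1 ∈ Y then t.2.2 else 0).sum + (D.map fun t => if t.1 ∈ Z then t.2.2 else 0).sum ≤ 3510 := by
    refine le_trans (le_of_eq List.sum_map_add.symm) (le_trans (List.sum_le_sum (g := fun t => t.2.2) ?_) hsum.le)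
    intro t _
    by_cases h1 : t.1 ∈ Y
    · rw [if_pos h1, if_neg (fun h2 => ((hZm _).1 h2).2 h1), add_zero]
    · rw [if_neg h1, zero_add]
      split_ifs
      · exact le_rfl
      · exact Nat.zero_le _
  omega

/-! ### The checks -/

/-- the orbit lengths -/
noncomputable def chkN (L : List (List Gen)) (D : List (ℕ × ℕ × ℕ)) : Bool :=
  D.all fun t => Nat.beq (pc 12 (sat (nws L) t.2.1 (Nat.pow 2 t.1))) t.2.2 &&
    Nat.beq (Nat.shiftRight (sat (nws L) t.2.1 (Nat.pow 2 t.1)) (Nat.pow 2 12)) 0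

/-- the union of the orbits -/
noncomputable def lorN (L : List (List Gen)) (D : List (ℕ × ℕ × ℕ)) : ℕ :=
  D.foldr (fun t r => Nat.lor (sat (nws L) t.2.1 (Nat.pow 2 t.1)) r) 0

/-- the orbits cover -/
noncomputable def chkC (L : List (List Gen)) (D : List (ℕ × ℕ × ℕ)) : Bool :=
  Nat.beq (lorN L D) (Nat.sub (Nat.pow 2 3510) 1)

theorem chkN_spec {L : List (List Gen)} {D : List (ℕ × ℕ × ℕ)} (h : chkN L D = true) :
    ∀ t ∈ D, (bits (2 ^ 12) (sat (nws L) t.2.1 (2 ^ t.1))).card = t.2.2 := by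
  intro t ht
  unfold chkN at h
  rw [List.all_eq_true] at h
  have h1 := h t ht
  rw [Bool.and_eq_true] at h1
  have h2 := Nat.eq_of_beq_eq_true h1.1
  have h3 : sat (nws L) t.2.1 (2 ^ t.1) >>> 2 ^ 12 = 0 := Nat.eq_of_beq_eq_true h1.2
  have hlt : sat (nws L) t.2.1 (2 ^ t.1) < 2 ^ 2 ^ 12 := by
    rw [Nat.shiftRight_eq_div_pow] at h3
    exact (Nat.div_eq_zero_iff_lt (by positivity)).1 h3
  rw [← pc_eq 12 _ hlt]
  exact h2

theorem lorN_spec {L : List (List Gen)} {p : ℕ} : ∀ {D : List (ℕ × ℕ × ℕ)}, (lorN L D).testBit p = true →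
    ∃ t ∈ D, (sat (nws L) t.2.1 (2 ^ t.1)).testBit p = true := by
  intro D
  induction D with
  | nil =>
    intro h
    change (0 : ℕ).testBit p = true at h
    rw [Nat.zero_testBit] at h
    exact absurd h (by decide)
  | cons t D ih =>
    intro h
    change (sat (nws L) t.2.1 (2 ^ t.1) ||| lorN L D).testBit p = true at h
    rw [Nat.testBit_or, Bool.or_eq_true] at h
    rcases h with h | h
    · exact ⟨t, List.mem_cons_self, h⟩
    · obtain ⟨s, hs, h1⟩ := ih h
      exact ⟨s, List.mem_cons_of_mem _ hs, h1⟩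

theorem chkC_spec {L : List (List Gen)} {D : List (ℕ × ℕ × ℕ)} (h : chkC L D = true) :
    ∀ p < 3510, ∃ t ∈ D, (sat (nws L) t.2.1 (2 ^ t.1)).testBit p = true := by
  intro p hp
  apply lorN_spec
  have h1 : lorN L D = 2 ^ 3510 - 1 := Nat.eq_of_beq_eq_true h
  rw [h1, Nat.testBit_two_pow_sub_one]
  simpa using hp

/-! ### Subgroups of order divisible by 25 -/

theorem orbit_finite : ({p | ∃ k ∈ K, φ k 0 = p} : Set ℕ).Finite :=
  (Set.finite_Iio 3510).subset fun _ ⟨k, _, h⟩ => h ▸ φ_lt k (by norm_num)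

theorem five_dvd (hK : 25 ∣ Nat.card K) {Y : Set ℕ} (hY : ∀ p ∈ Y, p < 3510)
    (hinv : ∀ g ∈ K, ∀ p ∈ Y, φ g p ∈ Y) : 5 ∣ Y.ncard := by
  have : Fact (Nat.Prime 5) := ⟨Nat.prime_five⟩
  obtain ⟨Q, hQ⟩ := Sylow.exists_subgroup_card_pow_prime (G := K) 5 (n := 2) hK
  have hQp : IsPGroup 5 Q := IsPGroup.of_card hQ
  have hfin : Finite Y := ((Set.finite_Iio 3510).subset fun p hp => hY p hp).to_subtype
  let act : MulAction Q Y :=
    { smul := fun g y => ⟨φ (g : K) y.1, hinv _ (g : K).2 _ y.2⟩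
      one_smul := fun y => Subtype.ext (by
        change φ (((1 : Q) : K) : Spor.Fi22) y.1 = y.1
        rw [OneMemClass.coe_one, OneMemClass.coe_one, map_one]
        rfl)
      mul_smul := fun g h y => Subtype.ext (by
        change φ (((g * h : Q) : K) : Spor.Fi22) y.1 = φ ((g : K) : Spor.Fi22) (φ ((h : K) : Spor.Fi22) y.1)
        rw [Subgroup.coe_mul, Subgroup.coe_mul, map_mul, Equiv.Perm.mul_apply]) }
  have h1 := hQp.card_modEq_card_fixedPoints (α := Y)
  have h2 : Nat.card (MulAction.fixedPoints Q Y) = 0 := by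
    rw [Finite.card_eq_zero_iff, Set.isEmpty_coe_sort, Set.eq_empty_iff_forall_notMem]
    intro y hy
    obtain ⟨h, hh⟩ := exists_of_lt (hY _ y.2)
    have h3 : ∀ g : Q, φ (g : K) y.1 = y.1 := fun g => congrArg Subtype.val (hy g)
    let f : Q → stabL φ [0] := fun g => ⟨h⁻¹ * ((g : K) : Spor.Fi22) * h, by
      intro q hq
      rw [List.mem_singleton.1 hq, map_mul, map_mul, Equiv.Perm.mul_apply, Equiv.Perm.mul_apply, hh, h3, ← hh,
        ← Equiv.Perm.mul_apply, ← map_mul, inv_mul_cancel, map_one, Equiv.Perm.one_apply]⟩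
    let F : Q →* stabL φ [0] :=
      { toFun := f
        map_one' := Subtype.ext (by
          change h⁻¹ * (((1 : Q) : K) : Spor.Fi22) * h = 1
          rw [OneMemClass.coe_one, OneMemClass.coe_one]
          group)
        map_mul' := fun a b => Subtype.ext (by
          change h⁻¹ * (((a * b : Q) : K) : Spor.Fi22) * h = h⁻¹ * ((a : K) : Spor.Fi22) * h * (h⁻¹ * ((b : K) : Spor.Fi22) * h)
          rw [Subgroup.coe_mul, Subgroup.coe_mul]
          group) }
    have hF : Function.Injective F := by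
      intro a b hab
      have h4 : h⁻¹ * ((a : K) : Spor.Fi22) * h = h⁻¹ * ((b : K) : Spor.Fi22) * h := congrArg Subtype.val hab
      have h5 := mul_left_cancel (mul_right_cancel h4)
      exact Subtype.ext (Subtype.ext h5)
    have h6 := Subgroup.card_dvd_of_injective F hF
    rw [hQ, card_values.2.1] at h6
    exact absurd h6 (by norm_num)
  rw [h2] at h1
  exact (Nat.modEq_zero_iff_dvd.1 h1)

theorem apart_five {P : Subgroup Spor.Fi22} (hP : 25 ∣ Nat.card P) {L : List ℕ} (hA : Prof A L)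
    (hL : ∀ x ∈ L, ¬ 5 ∣ x) : Apart A P := by
  intro g K h1 h2
  by_contra hK
  have h3 : 25 ∣ Nat.card K := by
    refine hP.trans ?_
    rw [← card_map_conj g]
    exact card_dvd_of_le (map_conj_le h2)
  exact hL _ (hA K h1 hK) (five_dvd h3 (fun _ hp => S_lt hp) fun g hg p hp => S_inv hg hp)

/-- the length of the orbit of `0` -/
theorem orbit_dvd : ({p | ∃ k ∈ K, φ k 0 = p} : Set ℕ).ncard ∣ Nat.card K := by
  have h1 : ({p | ∃ k ∈ K, φ k 0 = p} : Set ℕ) = Subtype.val '' (MulAction.orbit K x0) := by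
    ext p
    constructor
    · rintro ⟨k, hk, rfl⟩
      exact ⟨k • x0, ⟨⟨k, hk⟩, rfl⟩, rfl⟩
    · rintro ⟨_, ⟨⟨k, hk⟩, rfl⟩, rfl⟩
      exact ⟨k, hk, rfl⟩
  rw [h1, Set.ncard_image_of_injective _ Subtype.val_injective, ← MulAction.index_stabilizer]
  exact Subgroup.index_dvd_card _

end Cfsg.Agent.H89.Fi22Pts
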