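import Cfsg.Agent.H89.Fi22Pts
import Cfsg.Agent.H940.EngData

/-!
# Row `Fi22` of S5906/S5907 (helper89)

Five pairwise apart subgroups: `C(a)` (orbits 1, 693, 2816 on the transpositions), `⟨b, …, i⟩` (351, 3159),
`N(⟨a, b⟩)` (3, 126, 1680, 1701), `N(⟨a, c⟩)` (2, 180, 1024, 2304), a Sylow 5-subgroup.
-/

set_option autoImplicit false
set_option maxRecDepth 100000

namespace Cfsg.Agent.H89.SepFi22

open Cfsg.Spor Cfsg.Spor.Fi22 Cfsg.Agent.Lib.PermNet Cfsg.Agent.Lib.PermNetOrbit
open Cfsg.Agent.Fischer.Fi22PtsRep Cfsg.Agent.Fischer.Fi22Order Cfsg.Agent.H940.MaxCls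
open Cfsg.Agent.H89.Fi22Pts
open Subgroup

/-- the subgroup generated by a list of words -/
def cl (L : List (List Gen)) : Subgroup Spor.Fi22 := closure {g | ∃ w ∈ L, wd w = g}

theorem mem_cl {L : List (List Gen)} {w : List Gen} (h : w ∈ L) : wd w ∈ cl L := subset_closure ⟨w, h, rfl⟩

def LC : List (List Gen) := [[.a], [.c], [.d], [.e], [.f], [.g], [.h],
  [.b, .a, .c, .b, .d, .e, .f, .c, .d, .e, .h, .d, .i, .h, .e, .d, .c, .b, .f, .e, .d, .c, .a, .b]]
def LO : List (List Gen) := [[.b], [.c], [.d], [.e], [.f], [.g], [.h], [.i]]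
def LW : List (List Gen) := [[.a], [.b], [.d], [.e], [.f],
  [.b, .a, .c, .b, .d, .c, .e, .g, .i, .h, .d, .e, .h, .c, .d, .b, .c, .a, .b, .c, .d, .h, .e, .d, .c, .a]]
def LV : List (List Gen) := [[.a], [.e], [.g], [.h], [.i], [.b, .a, .c, .b], [.d, .c, .e, .h, .d, .e, .h, .c, .d, .f]]

def DC : List (ℕ × ℕ × ℕ) := [(0, 0, 1), (6, 4, 693), (1, 5, 2816)]
def DO : List (ℕ × ℕ × ℕ) := [(2, 5, 351), (0, 6, 3159)]
def DW : List (ℕ × ℕ × ℕ) := [(0, 2, 3), (16, 5, 126), (192, 5, 1680), (3, 8, 1701)]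
def DV : List (ℕ × ℕ × ℕ) := [(0, 1, 2), (40, 6, 180), (5, 5, 1024), (1, 6, 2304)]

theorem nC : chkN LC DC = true := by decide +kernel
theorem cC : chkC LC DC = true := by decide +kernel
theorem nO : chkN LO DO = true := by decide +kernel
theorem cO : chkC LO DO = true := by decide +kernel
theorem nW : chkN LW DW = true := by decide +kernel
theorem cW : chkC LW DW = true := by decide +kernel
theorem nV : chkN LV DV = true := by decide +kernel
theorem cV : chkC LV DV = true := by decide +kernel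

theorem wd_one (x : Gen) : wd [x] = gen x := by simp [wd]

/-- a generator in `K` -/
theorem gen_mem_S {K : Subgroup Spor.Fi22} {x : Gen} (h : gen x ∈ K) {p : ℕ} (hp : φ (wd (cw x)) 0 = p) : p ∈ S K := by
  rw [← hp, S_iff, ← gen_cw]
  exact h

theorem pt_a : φ (wd (cw .a)) 0 = 0 := by
  rw [cw, wd_nil, map_one]; rfl

theorem pt_e : φ (wd (cw .e)) 0 = 40 := by
  rw [φ_wd_apply]
  exact Nat.eq_of_beq_eq_true (by decide +kernel)

open Classical in
theorem inv_card {L : List (List Gen)} {D : List (ℕ × ℕ × ℕ)} (hn : chkN L D = true) (hc : chkC L D = true)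
    (hs : (D.map fun t => t.2.2).sum = 3510) {K : Subgroup Spor.Fi22} (hK : cl L ≤ K) {Y : Set ℕ}
    (hY : ∀ p ∈ Y, p < 3510) (hinv : ∀ g ∈ K, ∀ p ∈ Y, φ g p ∈ Y) :
    Y.ncard = (D.map fun t => if t.1 ∈ Y then t.2.2 else 0).sum :=
  ncard_inv (A := cl L) (fun _ hw => mem_cl hw) D (chkN_spec hn) (chkC_spec hc) hs hY (fun g hg => hinv g (hK hg))

theorem gen_mem {L : List (List Gen)} {x : Gen} (h : [x] ∈ L) {K : Subgroup Spor.Fi22} (hK : cl L ≤ K) : gen x ∈ K := by
  have h1 := hK (mem_cl h)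
  rwa [wd_one] at h1

theorem profC : Prof (cl LC) [694] := by
  intro K hK hne
  have h1 := S_ncard_lt hne
  have h0 : 0 ∈ S K := gen_mem_S (gen_mem (x := .a) (by decide) hK) pt_a
  have h6 : 6 ∈ S K := gen_mem_S (gen_mem (x := .c) (by decide) hK) pt_c
  have h2 := inv_card nC cC (by decide) hK (fun _ hp => S_lt hp) (fun g hg p hp => S_inv hg hp)
  simp only [DC, List.map_cons, List.map_nil, List.sum_cons, List.sum_nil, if_pos h0, if_pos h6] at h2
  rw [List.mem_singleton]
  split_ifs at h2 <;> omega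

theorem profO : Prof (cl LO) [351] := by
  intro K hK hne
  have h1 := S_ncard_lt hne
  have h0 : 2 ∈ S K := gen_mem_S (gen_mem (x := .b) (by decide) hK) pt_b
  have h2 := inv_card nO cO (by decide) hK (fun _ hp => S_lt hp) (fun g hg p hp => S_inv hg hp)
  simp only [DO, List.map_cons, List.map_nil, List.sum_cons, List.sum_nil, if_pos h0] at h2
  rw [List.mem_singleton]
  split_ifs at h2 <;> omega

theorem profW : Prof (cl LW) [129, 1830, 1809] := by
  intro K hK hne
  have h1 := S_ncard_lt hne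
  have h0 : 0 ∈ S K := gen_mem_S (gen_mem (x := .a) (by decide) hK) pt_a
  have h6 : 16 ∈ S K := gen_mem_S (gen_mem (x := .d) (by decide) hK) pt_d
  have h2 := inv_card nW cW (by decide) hK (fun _ hp => S_lt hp) (fun g hg p hp => S_inv hg hp)
  simp only [DW, List.map_cons, List.map_nil, List.sum_cons, List.sum_nil, if_pos h0, if_pos h6] at h2
  simp only [List.mem_cons, List.not_mem_nil, or_false]
  split_ifs at h2 <;> omega

theorem profV : Prof (cl LV) [182, 1206, 2486] := by
  intro K hK hne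
  have h1 := S_ncard_lt hne
  have h0 : 0 ∈ S K := gen_mem_S (gen_mem (x := .a) (by decide) hK) pt_a
  have h6 : 40 ∈ S K := gen_mem_S (gen_mem (x := .e) (by decide) hK) pt_e
  have h2 := inv_card nV cV (by decide) hK (fun _ hp => S_lt hp) (fun g hg p hp => S_inv hg hp)
  simp only [DV, List.map_cons, List.map_nil, List.sum_cons, List.sum_nil, if_pos h0, if_pos h6] at h2
  simp only [List.mem_cons, List.not_mem_nil, or_false]
  split_ifs at h2 <;> omega

/-- a proper overgroup of `W` has an orbit of length three -/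
theorem orbW {K : Subgroup Spor.Fi22} (hK : cl LW ≤ K) (hne : K ≠ ⊤) : ({p | ∃ k ∈ K, φ k 0 = p} : Set ℕ).ncard = 3 := by
  have h0 : 0 ∈ ({p | ∃ k ∈ K, φ k 0 = p} : Set ℕ) := ⟨1, K.one_mem, by rw [map_one]; rfl⟩
  have hS : 0 ∈ S K := gen_mem_S (gen_mem (x := .a) (by decide) hK) pt_a
  have hsub : ({p | ∃ k ∈ K, φ k 0 = p} : Set ℕ) ⊆ S K := by
    rintro _ ⟨k, hk, rfl⟩
    exact S_inv hk hS
  have h1 := (Set.ncard_le_ncard hsub S_finite).trans_lt (S_ncard_lt hne)
  have h2 := inv_card nW cW (by decide) hK (Y := {p | ∃ k ∈ K, φ k 0 = p}) (fun p hp => S_lt (hsub hp)) (by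
    rintro g hg _ ⟨k, hk, rfl⟩
    exact ⟨g * k, K.mul_mem hg hk, by rw [map_mul, Equiv.Perm.mul_apply]⟩)
  have h3 := (orbit_dvd (K := K)).trans (card_subgroup_dvd_card K)
  rw [card_fi22] at h3
  simp only [DW, List.map_cons, List.map_nil, List.sum_cons, List.sum_nil, if_pos h0] at h2
  split_ifs at h2
  all_goals
    first
    | exact h2
    | (exfalso; omega)
    | (exfalso; rw [h2] at h3; revert h3; norm_num)

theorem ne_top {L : List (List Gen)} {U q : ℕ} (h : closedB (nws L) U = true) (h0 : tb U 0 = true)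
    (hq : tb U q = false) (hq' : q < 3510) : cl L ≠ ⊤ := by
  intro htop
  have h1 : ∀ g ∈ cl L, ∀ p, U.testBit (φ g p) = U.testBit p := by
    intro g hg
    unfold cl at hg
    induction hg using Subgroup.closure_induction with
    | mem x hx =>
      obtain ⟨w, hw, rfl⟩ := hx
      intro p
      rw [φ_wd]
      exact closedB_spec (nws_ok L) h _ (List.mem_map_of_mem hw) p
    | one => intro p; simp
    | mul x y _ _ hx hy => intro p; rw [map_mul, Equiv.Perm.mul_apply, hx, hy]
    | inv x _ hx => intro p; rw [← hx, map_inv]; simp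
  obtain ⟨g, hg⟩ := exists_of_lt hq'
  have h2 := h1 g (htop ▸ mem_top g) 0
  rw [hg, ← tb_eq, ← tb_eq, h0, hq] at h2
  exact absurd h2 (by decide)

theorem neC : cl LC ≠ ⊤ := ne_top (U := 1) (q := 1) (by decide +kernel) (by decide +kernel) (by decide +kernel) (by norm_num)
theorem neW : cl LW ≠ ⊤ := ne_top (U := 7) (q := 3) (by decide +kernel) (by decide +kernel) (by decide +kernel) (by norm_num)
theorem neV : cl LV ≠ ⊤ := ne_top (U := 65) (q := 1) (by decide +kernel) (by decide +kernel) (by decide +kernel) (by norm_num)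
theorem neO : cl LO ≠ ⊤ := ne_top (U := sat (nws LO) 6 (Nat.pow 2 0)) (q := 2) (by decide +kernel) (by decide +kernel)
  (by decide +kernel) (by norm_num)

/-- **the row `Fi22`** -/
theorem sep : Sep 5 Spor.Fi22 := by
  have h5 : Fact (Nat.Prime 5) := ⟨Nat.prime_five⟩
  obtain ⟨Q, hQ⟩ := Sylow.exists_subgroup_card_pow_prime (G := Spor.Fi22) 5 (n := 2) (by rw [card_fi22]; norm_num)
  have hQ' : 25 ∣ Nat.card Q := by rw [hQ]; norm_num
  have neQ : Q ≠ ⊤ := by
    intro h
    rw [h, card_top, card_fi22] at hQ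
    norm_num at hQ
  refine sep_five neC neO neW neV neQ (apart_of_lists profC profO (by decide)) (apart_of_lists profC profW (by decide))
    (apart_of_lists profC profV (by decide)) (apart_five hQ' profC (by decide))
    (apart_of_lists profO profW (by decide)) (apart_of_lists profO profV (by decide))
    (apart_five hQ' profO (by decide)) (apart_of_lists profW profV (by decide)) ?_
    (apart_five hQ' profV (by decide))
  intro g K h1 h2
  by_contra hK
  have h3 : 25 ∣ Nat.card K := by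
    refine hQ'.trans ?_
    rw [← card_map_conj g]
    exact card_dvd_of_le (map_conj_le h2)
  have h4 := five_dvd h3 (Y := {p | ∃ k ∈ K, φ k 0 = p}) (by
    rintro _ ⟨k, _, rfl⟩
    exact φ_lt k (by norm_num)) (by
    rintro g hg _ ⟨k, hk, rfl⟩
    exact ⟨g * k, K.mul_mem hg hk, by rw [map_mul, Equiv.Perm.mul_apply]⟩)
  rw [orbW h1 hK] at h4
  exact absurd h4 (by norm_num)

theorem five (_ : Cfsg.Agent.H940.Eng.Base) : Cfsg.Agent.H940.MaxCls.Sep 5 Cfsg.Spor.Fi22 := sep

end Cfsg.Agent.H89.SepFi22
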