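import Cfsg.Agent.H89.SepFi22
import Cfsg.Agent.H339.MaxRow
import Cfsg.Agent.OddHalf.D8.Fi22.KTrans

/-!
# `Fi22` : three pairwise apart subgroups invariant under all automorphisms (row of S5907, helper89)

`C(a)`, `N(⟨a, c⟩)` and a Sylow 5-subgroup.
-/

set_option autoImplicit false
set_option maxRecDepth 100000

namespace Cfsg.Agent.H89.SepInvFi22

open Cfsg.Spor Cfsg.Spor.Fi22 Cfsg.Agent.Lib.PermNet Cfsg.Agent.Lib.PermNetOrbit
open Cfsg.Agent.Fischer.Fi22PtsRep Cfsg.Agent.Fischer.Fi22Order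
open Cfsg.Agent.H89.Fi22Pts Cfsg.Agent.H89.SepFi22 Cfsg.Agent.H339.MaxCl
open Subgroup

theorem map_normalizer {X Y : Type*} [Group X] [Group Y] (e : X ≃* Y) (A : Subgroup X) :
    (normalizer (A : Set X)).map e.toMonoidHom = normalizer ((A.map e.toMonoidHom : Subgroup Y) : Set Y) := by
  have h2 : ∀ v : X, e v ∈ (A.map e.toMonoidHom : Subgroup Y) ↔ v ∈ A := by
    intro v
    constructor
    · rintro ⟨u, hu, huv⟩
      have : u = v := e.injective huv
      rwa [← this]
    · intro hv
      exact ⟨v, hv, rfl⟩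
  ext y
  obtain ⟨x, rfl⟩ := e.surjective y
  have h0 : e x ∈ (normalizer (A : Set X)).map e.toMonoidHom ↔ x ∈ normalizer (A : Set X) := by
    constructor
    · rintro ⟨u, hu, huv⟩
      have : u = x := e.injective huv
      rwa [← this]
    · intro hx
      exact ⟨x, hx, rfl⟩
  rw [h0, mem_normalizer_iff, mem_normalizer_iff]
  constructor
  · intro h z
    obtain ⟨w, rfl⟩ := e.surjective z
    rw [← map_inv, ← map_mul, ← map_mul, h2, h2]
    exact h w
  · intro h w
    have h1 := h (e w)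
    rwa [← map_inv, ← map_mul, ← map_mul, h2, h2] at h1

theorem apart_iff {K : Type*} [Group K] {A B : Subgroup K} : H940.MaxCls.Apart A B ↔ Apart A B := by
  constructor
  · intro h H h1 g h2
    exact h g H h1 fun x hx => h2 ⟨x, hx, rfl⟩
  · intro h g H h1 h2
    refine h H h1 g ?_
    rintro _ ⟨x, hx, rfl⟩
    exact h2 x hx

theorem sepInv_three {K : Type*} [Group K] {A B C : Subgroup K} (hA : A ≠ ⊤ ∧ A ≠ ⊥ ∧ AutInv A)
    (hB : B ≠ ⊤ ∧ B ≠ ⊥ ∧ AutInv B) (hC : C ≠ ⊤ ∧ C ≠ ⊥ ∧ AutInv C) (hAB : Apart A B) (hAC : Apart A C)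
    (hBC : Apart B C) : SepInv 3 K := by
  refine ⟨![A, B, C], ?_, ?_⟩
  · intro i
    fin_cases i
    · exact hA
    · exact hB
    · exact hC
  · intro i j hij
    fin_cases i <;> fin_cases j
    · exact absurd rfl hij
    · exact hAB
    · exact hAC
    · exact hAB.symm
    · exact absurd rfl hij
    · exact hBC
    · exact hAC.symm
    · exact hBC.symm
    · exact absurd rfl hij

/-! ### The subgroups -/

def CA : Subgroup Spor.Fi22 := centralizer {gen .a}
def NV : Subgroup Spor.Fi22 := normalizer ((closure {gen .a, gen .c} : Subgroup Spor.Fi22) : Set Spor.Fi22)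

/-- `wd w * gen x = gen y * wd w` -/
noncomputable def cj (x y : Gen) (w : List Gen) : Bool := checkEq 12 (nw (w ++ [x])) (nw (y :: w))

theorem cj_spec {x y : Gen} {w : List Gen} (h : cj x y w = true) : wd w * gen x = gen y * wd w := by
  apply φ_injective
  have h2 := wperm_eq_of_checkEq (nw_ok _) (nw_ok _) h
  rw [← φ_wd, ← φ_wd, wd_append, wd_cons, wd_cons, wd_nil, mul_one] at h2
  exact h2

theorem cC : (LC.all fun w => cj .a .a w) = true := by decide +kernel
theorem cV : (LV.all fun w => (cj .a .a w && cj .c .c w) || (cj .a .c w && cj .c .a w)) = true := by decide +kernel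

theorem le_CA : cl LC ≤ CA := by
  unfold cl
  rw [closure_le]
  rintro _ ⟨w, hw, rfl⟩
  exact mem_centralizer_singleton_iff.2 (cj_spec (List.all_eq_true.1 cC w hw))

theorem le_NV : cl LV ≤ NV := by
  unfold cl
  rw [closure_le]
  rintro _ ⟨w, hw, rfl⟩
  have h := List.all_eq_true.1 cV w hw
  rw [Bool.or_eq_true, Bool.and_eq_true, Bool.and_eq_true] at h
  set g := wd w
  have key : ∀ {x y : Gen}, g * gen x = gen y * g → (MulAut.conj g).toMonoidHom (gen x) = gen y := by
    intro x y h1
    show g * gen x * g⁻¹ = gen y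
    rw [h1, mul_inv_cancel_right]
  have h1 : (closure {gen .a, gen .c} : Subgroup Spor.Fi22).map (MulAut.conj g).toMonoidHom = closure {gen .a, gen .c} := by
    rw [MonoidHom.map_closure, Set.image_pair]
    rcases h with ⟨h1, h2⟩ | ⟨h1, h2⟩
    · rw [key (cj_spec h1), key (cj_spec h2)]
    · rw [key (cj_spec h1), key (cj_spec h2), Set.pair_comm]
  show g ∈ normalizer ((closure {gen .a, gen .c} : Subgroup Spor.Fi22) : Set Spor.Fi22)
  rw [mem_normalizer_iff]
  intro x
  have h2 : g * x * g⁻¹ ∈ (closure {gen .a, gen .c} : Subgroup Spor.Fi22).map (MulAut.conj g).toMonoidHom ↔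
      x ∈ (closure {gen .a, gen .c} : Subgroup Spor.Fi22) := by
    constructor
    · rintro ⟨y, hy, hyx⟩
      have h3 : y = x := by
        have h4 : g * y * g⁻¹ = g * x * g⁻¹ := hyx
        exact mul_left_cancel (mul_right_cancel h4)
      rwa [← h3]
    · intro hx
      exact ⟨x, hx, rfl⟩
  rw [← h2, h1]

/-! ### Automorphisms -/

open Cfsg.Agent.R01.Fi22Facts (T gen_mem) in
theorem exists_one (α : Spor.Fi22 ≃* Spor.Fi22) : ∃ g : Spor.Fi22, g * gen .a * g⁻¹ = α (gen .a) :=
  (Cfsg.Agent.OddHalf.D8.Fi22.kTrans0).trans _ (gen_mem .a) _ ((Cfsg.Agent.OddHalf.D8.Fi22.kTrans0).aut α _ (gen_mem .a))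

theorem ac_comm : gen .a * gen .c = gen .c * gen .a := gen_comm (by decide)

open Cfsg.Agent.R01.Fi22Facts (T gen_mem) in
theorem exists_two (α : Spor.Fi22 ≃* Spor.Fi22) :
    ∃ g : Spor.Fi22, g * gen .a * g⁻¹ = α (gen .a) ∧ g * gen .c * g⁻¹ = α (gen .c) := by
  have K := Cfsg.Agent.OddHalf.D8.Fi22.kTrans0
  refine K.trans2 _ (gen_mem .a) _ (gen_mem .c) _ (K.aut α _ (gen_mem .a)) _ (K.aut α _ (gen_mem .c)) c_ne_a.symm
    (fun h => c_ne_a.symm (α.injective h)) ac_comm ?_
  rw [← map_mul, ← map_mul, ac_comm]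

theorem autInv_CA : AutInv CA := by
  intro α
  obtain ⟨g, hg⟩ := exists_one α
  refine ⟨g, ?_⟩
  have key : ∀ e : Spor.Fi22 ≃* Spor.Fi22, CA.map e.toMonoidHom = centralizer {e (gen .a)} := by
    intro e
    ext y
    obtain ⟨x, rfl⟩ := e.surjective y
    rw [mem_centralizer_singleton_iff, ← map_mul, ← map_mul, e.injective.eq_iff]
    constructor
    · rintro ⟨u, hu, huv⟩
      have : u = x := e.injective huv
      rw [← this]
      exact mem_centralizer_singleton_iff.1 hu
    · intro h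
      exact ⟨x, mem_centralizer_singleton_iff.2 h, rfl⟩
  rw [key, key, ← hg]
  rfl

theorem autInv_NV : AutInv NV := by
  intro α
  obtain ⟨g, h1, h2⟩ := exists_two α
  refine ⟨g, ?_⟩
  unfold NV
  rw [map_normalizer, map_normalizer]
  have h3 : (closure {gen .a, gen .c} : Subgroup Spor.Fi22).map (MulAut.conj g).toMonoidHom =
      (closure {gen .a, gen .c} : Subgroup Spor.Fi22).map α.toMonoidHom := by
    rw [MonoidHom.map_closure, MonoidHom.map_closure, Set.image_pair, Set.image_pair]
    have e1 : (MulAut.conj g).toMonoidHom (gen .a) = α.toMonoidHom (gen .a) := h1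
    have e2 : (MulAut.conj g).toMonoidHom (gen .c) = α.toMonoidHom (gen .c) := h2
    rw [e1, e2]
  rw [h3]

theorem a_ne_one : gen .a ≠ 1 := by
  intro h
  apply ab_ne
  rw [h, one_mul, mul_one]

theorem neCA : CA ≠ ⊤ := by
  intro h
  apply ab_ne
  have : gen .b ∈ CA := h ▸ mem_top _
  exact (mem_centralizer_singleton_iff.1 this).symm

theorem cl_le_CA : (closure {gen .a, gen .c} : Subgroup Spor.Fi22) ≤ CA := by
  rw [closure_le]
  rintro x (rfl | rfl)
  · exact mem_centralizer_singleton_iff.2 rfl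
  · exact mem_centralizer_singleton_iff.2 ac_comm.symm

theorem neNV : NV ≠ ⊤ := by
  intro h
  have := isSimple
  rcases (normalizer_eq_top_iff.1 h).eq_bot_or_eq_top with h1 | h1
  · apply a_ne_one
    rw [← mem_bot, ← h1]
    exact subset_closure (Or.inl rfl)
  · exact neCA (top_le_iff.1 (h1 ▸ cl_le_CA))

/-- **`SepInv 3`** -/
theorem inv : SepInv 3 Spor.Fi22 := by
  have h5 : Fact (Nat.Prime 5) := ⟨Nat.prime_five⟩
  obtain ⟨P⟩ : Nonempty (Sylow 5 Spor.Fi22) := inferInstance
  have hP : Nat.card (P : Subgroup Spor.Fi22) = 25 := by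
    rw [P.card_eq_multiplicity, card_fi22]
    have : (64561751654400 : ℕ) = 5 ^ 2 * 2582470066176 := by norm_num
    rw [this, Nat.factorization_mul (by norm_num) (by norm_num), Nat.factorization_pow, Finsupp.add_apply,
      Finsupp.smul_apply, Nat.Prime.factorization_self Nat.prime_five,
      Nat.factorization_eq_zero_of_not_dvd (by norm_num : ¬ 5 ∣ 2582470066176)]
    norm_num
  refine sepInv_three (A := CA) (B := NV) (C := (P : Subgroup Spor.Fi22)) ⟨neCA, ?_, autInv_CA⟩ ⟨neNV, ?_, autInv_NV⟩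
    ⟨?_, ?_, autInv_sylow P⟩ (apart_iff.1 ?_) (apart_iff.1 ?_) (apart_iff.1 ?_)
  · intro h
    apply a_ne_one
    rw [← mem_bot, ← h]
    exact mem_centralizer_singleton_iff.2 rfl
  · intro h
    apply a_ne_one
    rw [← mem_bot, ← h]
    exact le_normalizer (subset_closure (Or.inl rfl))
  · intro h
    rw [h, card_top, card_fi22] at hP
    norm_num at hP
  · intro h
    rw [h, card_bot] at hP
    norm_num at hP
  · exact (apart_of_lists profC profV (by decide)).mono le_CA le_NV
  · exact (apart_five (by rw [hP]) profC (by decide)).mono le_CA le_rfl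
  · exact (apart_five (by rw [hP]) profV (by decide)).mono le_NV le_rfl

/-- the same for a group isomorphic to `Fi22` -/
theorem fi22 {G : Type*} [Group G] (h : Spor.IsoFi22 G) : SepInv 3 G := by
  obtain ⟨e⟩ := h
  exact inv.congr e.symm

end Cfsg.Agent.H89.SepInvFi22
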