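import Cfsg.Agent.H89.TvExtra

/-!
# The centraliser of a transvection over the field with two elements: `O₂(C) = Q`, the row group is normal
-/

set_option autoImplicit false
set_option linter.unusedSectionVars false

namespace Cfsg.Agent.H89.TvCore

open Matrix Cfsg.Agent.H89.TvCent Cfsg.Agent.H89.TvTwo Cfsg.Agent.H89.TvExtra

variable {ι : Type*} [Fintype ι] [DecidableEq ι] {F : Type*} [Field F] [Fintype F] {i j : ι} {hij : i ≠ j}

/-- The row group. -/
def A (hF : Fintype.card F = 2) (hij : i ≠ j) : Subgroup ↥(CC hij F) where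
  carrier := {g | g ∈ Q hij ∧ c hij g = 0}
  one_mem' := ⟨one_mem _, one_c⟩
  mul_mem' := fun {a b} ha hb => ⟨mul_mem ha.1 hb.1, by rw [c_mul_Q hF ha.1, ha.2, hb.2, add_zero]⟩
  inv_mem' := fun {a} ha => ⟨inv_mem ha.1, by
    have h1 : c hij (a⁻¹ * a) = 0 := by rw [inv_mul_cancel, one_c]
    rw [c_mul_Q hF (inv_mem ha.1), ha.2, add_zero] at h1
    exact h1⟩

theorem mem_A {hF : Fintype.card F = 2} {g : ↥(CC hij F)} : g ∈ A hF hij ↔ g ∈ Q hij ∧ c hij g = 0 := Iff.rfl

theorem A_normal (hF : Fintype.card F = 2) : (A (F := F) hF hij).Normal := by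
  classical
  constructor
  intro g hg h
  have h1 : h * g * h⁻¹ ∈ Q hij := (Q_normal (F := F) hij).conj_mem g hg.1 h
  refine ⟨h1, ?_⟩
  have h2 : c hij ((h * g * h⁻¹) * h) = c hij (h * g) := by rw [inv_mul_cancel_right]
  rw [c_mul_Q hF h1] at h2
  have h3 : c hij (h * g) = c hij h := by
    funext k
    rw [c_mul hF, hg.2]
    simp
  rw [h3] at h2
  exact add_eq_right.1 h2

theorem A_le (hF : Fintype.card F = 2) : A (F := F) hF hij ≤ Q hij := fun _ hg => hg.1

theorem T0_mem_A (hF : Fintype.card F = 2) : T0 F hij ∈ A hF hij := ⟨T0_Q, c_T0⟩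

theorem A_ne (hF : Fintype.card F = 2) (k : Mid i j) : A (F := F) hF hij ≠ Q hij := by
  classical
  intro h
  have h1 : xc F hij k ∈ A hF hij := by rw [h]; exact xc_Q k
  have h2 := congrFun h1.2 k
  rw [c_xc, Pi.single_eq_same] at h2
  exact one_ne_zero h2

theorem R_zpowers (hF : Fintype.card F = 2) {g : ↥(CC hij F)} (hg : g ∈ Subgroup.zpowers (T0 F hij)) : R hij g = 0 := by
  have h1 : (⟨T0 F hij, T0_Q⟩ : ↥(Q (F := F) hij)) ∈ Subgroup.center ↥(Q (F := F) hij) :=
    (center_eq hF _).2 (Or.inr rfl)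
  obtain ⟨n, rfl⟩ := Subgroup.mem_zpowers_iff.1 hg
  have h2 := (mem_center_iff hF _).1 (Subgroup.zpow_mem _ h1 n)
  exact h2.1

theorem A_ne' (hF : Fintype.card F = 2) (k : Mid i j) : A (F := F) hF hij ≠ Subgroup.zpowers (T0 F hij) := by
  classical
  intro h
  have h1 : xr F hij k ∈ A hF hij := ⟨xr_Q k, c_xr k⟩
  rw [h] at h1
  have h2 := congrFun (R_zpowers hF h1) k
  rw [R_xr, Pi.single_eq_same] at h2
  exact one_ne_zero h2

/-! ### `O₂(C)` -/

theorem tv_mid_mem {l k : Mid i j} (h : l ≠ k) (x : F) :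
    tv (fun h' => h (Subtype.ext h') : (l : ι) ≠ k) x ∈ CC hij F := by
  rw [mem_CC]
  refine ⟨fun a ha => ?_, fun b hb => ?_, ?_⟩
  · rw [tv_coe, tv_apply, if_neg ha, if_neg (fun h => k.2.1 h.2), add_zero]
  · rw [tv_coe, tv_apply, if_neg (Ne.symm hb), if_neg (fun h => l.2.2 h.1), add_zero]
  · rw [tv_coe, tv_apply, tv_apply, if_pos rfl, if_pos rfl, if_neg (fun h => k.2.1 h.2), if_neg (fun h => l.2.2 h.1)]

/-- `x_lk(1)` for middle indices -/
def xm (F : Type*) [Field F] [Fintype F] (hij : i ≠ j) {l k : Mid i j} (h : l ≠ k) : ↥(CC hij F) :=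
  ⟨tv (fun h' => h (Subtype.ext h') : (l : ι) ≠ k) 1, tv_mid_mem h 1⟩

theorem pi_xm {l k : Mid i j} (h : l ≠ k) : pi hij (xm F hij h) = transvection l k 1 := by
  ext a b
  rw [pi_apply]
  change (transvection (l : ι) (k : ι) (1 : F) : Matrix ι ι F) a b = _
  rw [tv_apply, tv_apply]
  simp only [Subtype.ext_iff]

theorem xm_mulVec {l k : Mid i j} (h : l ≠ k) (v : Mid i j → F) :
    pi hij (xm F hij h) *ᵥ v = v + Pi.single l (v k) := by
  rw [pi_xm, transvection, Matrix.add_mulVec, Matrix.one_mulVec]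
  congr 1
  funext a
  rw [Matrix.mulVec, dotProduct, Pi.single_apply]
  by_cases ha : a = l
  · subst ha
    simp [Matrix.single_apply]
  · rw [if_neg ha]
    refine Finset.sum_eq_zero fun b _ => ?_
    rw [Matrix.single_apply, if_neg (fun h => ha h.1.symm), zero_mul]

/-- A normal `2`-subgroup of `C` acts trivially on the middle indices. -/
theorem le_Q (hF : Fintype.card F = 2) (hcard : 2 ≤ Fintype.card (Mid i j)) (N : Subgroup ↥(CC hij F))
    (hN : N.Normal) (h2 : IsPGroup 2 N) : N ≤ Q hij := by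
  classical
  letI : MulAction ↥N (Mid i j → F) :=
    { smul := fun n v => pi hij (n : ↥(CC hij F)) *ᵥ v
      one_smul := fun v => by
        change pi hij (1 : ↥(CC hij F)) *ᵥ v = v
        rw [map_one, Matrix.one_mulVec]
      mul_smul := fun a b v => by
        change pi hij ((a : ↥(CC hij F)) * (b : ↥(CC hij F))) *ᵥ v =
          pi hij (a : ↥(CC hij F)) *ᵥ (pi hij (b : ↥(CC hij F)) *ᵥ v)
        rw [map_mul, Matrix.mulVec_mulVec] }
  have hsm : ∀ (n : ↥N) (v : Mid i j → F), n • v = pi hij (n : ↥(CC hij F)) *ᵥ v := fun _ _ => rfl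
  have h3 := h2.card_modEq_card_fixedPoints (Mid i j → F)
  have h4 : 2 ∣ Nat.card (Mid i j → F) := by
    rw [Nat.card_eq_fintype_card, Fintype.card_fun, hF]
    exact dvd_pow_self 2 (by omega)
  have h5 : 2 ∣ Nat.card (MulAction.fixedPoints ↥N (Mid i j → F)) :=
    Nat.modEq_zero_iff_dvd.1 (h3.symm.trans (Nat.modEq_zero_iff_dvd.2 h4))
  have h0 : (0 : Mid i j → F) ∈ MulAction.fixedPoints ↥N (Mid i j → F) := by
    intro n
    rw [hsm, Matrix.mulVec_zero]
  have h6 : 1 < Nat.card (MulAction.fixedPoints ↥N (Mid i j → F)) := by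
    have : Nonempty ↥(MulAction.fixedPoints ↥N (Mid i j → F)) := ⟨⟨0, h0⟩⟩
    have h7 : 0 < Nat.card (MulAction.fixedPoints ↥N (Mid i j → F)) := Nat.card_pos
    exact lt_of_lt_of_le one_lt_two (Nat.le_of_dvd h7 h5)
  rw [Finite.one_lt_card_iff_nontrivial] at h6
  obtain ⟨⟨v, hv⟩, hv0⟩ := exists_ne (⟨0, h0⟩ : ↥(MulAction.fixedPoints ↥N (Mid i j → F)))
  have hv1 : v ≠ 0 := fun h => hv0 (Subtype.ext h)
  -- the fixed points form a `C`-invariant subspace
  have hadd : ∀ v w : Mid i j → F, v ∈ MulAction.fixedPoints ↥N (Mid i j → F) →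
      w ∈ MulAction.fixedPoints ↥N (Mid i j → F) → v + w ∈ MulAction.fixedPoints ↥N (Mid i j → F) := by
    intro v w hv hw n
    have h7 := hv n
    have h8 := hw n
    rw [hsm] at h7 h8
    rw [hsm, Matrix.mulVec_add, h7, h8]
  have hinv : ∀ (g : ↥(CC hij F)) (v : Mid i j → F), v ∈ MulAction.fixedPoints ↥N (Mid i j → F) →
      pi hij g *ᵥ v ∈ MulAction.fixedPoints ↥N (Mid i j → F) := by
    intro g v hv n
    have h7 := hv ⟨g⁻¹ * n * g, by simpa using hN.conj_mem n n.2 g⁻¹⟩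
    rw [hsm] at h7 ⊢
    have h8 : pi hij (n : ↥(CC hij F)) *ᵥ (pi hij g *ᵥ v) =
        pi hij g *ᵥ (pi hij (g⁻¹ * n * g) *ᵥ v) := by
      rw [Matrix.mulVec_mulVec, Matrix.mulVec_mulVec, ← map_mul, ← map_mul]
      congr 2
      group
    rw [h8]
    exact congrArg _ h7
  have hsub : ∀ v w : Mid i j → F, v ∈ MulAction.fixedPoints ↥N (Mid i j → F) →
      v + w ∈ MulAction.fixedPoints ↥N (Mid i j → F) → w ∈ MulAction.fixedPoints ↥N (Mid i j → F) := by
    intro v w hv hw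
    have h9 := hadd _ _ hv hw
    rw [← add_assoc, show v + v = 0 from funext fun k => add_self hF _, zero_add] at h9
    exact h9
  obtain ⟨k, hk⟩ := Function.ne_iff.1 hv1
  have hk1 : v k = 1 := (eq_zero_or_one hF _).resolve_left hk
  have he : ∀ l : Mid i j, l ≠ k → (Pi.single l 1 : Mid i j → F) ∈ MulAction.fixedPoints ↥N (Mid i j → F) := by
    intro l hl
    have h9 := hinv (xm F hij hl) v hv
    rw [xm_mulVec, hk1] at h9
    exact hsub _ _ hv h9
  have hek : (Pi.single k 1 : Mid i j → F) ∈ MulAction.fixedPoints ↥N (Mid i j → F) := by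
    obtain ⟨l, hl⟩ : ∃ l : Mid i j, l ≠ k := Fintype.exists_ne_of_one_lt_card (by omega) k
    have h9 := hinv (xm F hij (Ne.symm hl)) _ (he l hl)
    rw [xm_mulVec, Pi.single_eq_same] at h9
    exact hsub _ _ (he l hl) h9
  have hall : ∀ l : Mid i j, (Pi.single l 1 : Mid i j → F) ∈ MulAction.fixedPoints ↥N (Mid i j → F) := by
    intro l
    by_cases hl : l = k
    · rw [hl]; exact hek
    · exact he l hl
  intro n hn
  rw [mem_Q]
  ext a b
  have h9 := hall b ⟨n, hn⟩
  rw [hsm] at h9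
  have h10 := congrFun h9 a
  rw [Matrix.mulVec_single_one] at h10
  rw [Matrix.one_apply]
  change pi hij n a b = _ at h10
  rw [h10, Pi.single_apply]

theorem pCore_eq (hF : Fintype.card F = 2) (hcard : 2 ≤ Fintype.card (Mid i j)) :
    Cfsg.pCore 2 ↥(CC hij F) = Q hij := by
  apply le_antisymm
  · exact sSup_le fun N hN => le_Q hF hcard N hN.1 hN.2
  · exact le_sSup ⟨Q_normal hij, isPGroup hF⟩

end Cfsg.Agent.H89.TvCore
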