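import Cfsg.Agent.H89.TvCent
import Cfsg.Prelude.Def_Transfer

/-!
# The centraliser of a transvection in `SL` over the field with two elements

`Q` = kernel of the action on the middle indices: extraspecial of order `2 ^ (2 m + 1)`, `m` the number of the middle
indices, `Q = O₂(C)`, and `Arow` (the row group) is normal in `C`.
-/

set_option autoImplicit false
set_option linter.unusedSectionVars false

namespace Cfsg.Agent.H89.TvTwo

open Matrix Cfsg.Agent.H89.TvCent

variable {ι : Type*} [Fintype ι] [DecidableEq ι] {F : Type*} [Field F] [Fintype F] {i j : ι}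

theorem eq_zero_or_one (hF : Fintype.card F = 2) (x : F) : x = 0 ∨ x = 1 := by
  classical
  by_contra h
  push Not at h
  have h1 : ({0, 1, x} : Finset F).card = 3 := by
    rw [Finset.card_insert_of_notMem, Finset.card_insert_of_notMem, Finset.card_singleton]
    · simp only [Finset.mem_singleton]
      exact fun h' => h.2 h'.symm
    · simp only [Finset.mem_insert, Finset.mem_singleton, not_or]
      exact ⟨zero_ne_one, fun h' => h.1 h'.symm⟩
  have h2 := Finset.card_le_univ ({0, 1, x} : Finset F)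
  omega

theorem add_self (hF : Fintype.card F = 2) (x : F) : x + x = 0 := by
  have h2 : (1 : F) + 1 = 0 := by
    rcases eq_zero_or_one hF ((1 : F) + 1) with h | h
    · exact h
    · exact absurd (add_eq_left.1 h) one_ne_zero
  calc x + x = x * (1 + 1) := by ring
    _ = 0 := by rw [h2, mul_zero]

theorem ii_eq_one (hF : Fintype.card F = 2) {g : SpecialLinearGroup ι F} (hg : Cm i j (g : Matrix ι ι F)) :
    (g : Matrix ι ι F) i i = 1 := by
  refine (eq_zero_or_one hF _).resolve_left fun h => ?_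
  have h1 : (g : Matrix ι ι F).det = 0 := by
    refine Matrix.det_eq_zero_of_column_eq_zero i fun a => ?_
    by_cases ha : a = i
    · rw [ha, h]
    · exact hg.col a ha
  rw [g.2] at h1
  exact one_ne_zero h1

theorem one_mid (a b : Mid i j) : (1 : Matrix (Mid i j) (Mid i j) F) a b = if (a : ι) = b then 1 else 0 := by
  rw [Matrix.one_apply]
  simp only [Subtype.ext_iff]

variable (hij : i ≠ j)

/-- the action on the middle indices -/
def pi : ↥(CC hij F) →* Matrix (Mid i j) (Mid i j) F where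
  toFun g := mid i j ((g : SpecialLinearGroup ι F) : Matrix ι ι F)
  map_one' := by
    ext a b
    rw [mid_apply]
    change (1 : Matrix ι ι F) a b = _
    rw [Matrix.one_apply, Matrix.one_apply]
    simp only [Subtype.ext_iff]
  map_mul' g h := Cm.mul_mid hij (mem_CC.1 g.2) (mem_CC.1 h.2)

theorem pi_apply (g : ↥(CC hij F)) (a b : Mid i j) :
    pi hij g a b = ((g : SpecialLinearGroup ι F) : Matrix ι ι F) a b := rfl

/-- the unipotent radical -/
def Q : Subgroup ↥(CC hij F) := (pi hij).ker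

instance Q_normal : (Q (F := F) hij).Normal := MonoidHom.normal_ker _

/-- the middle part of row `i` -/
def R (g : ↥(CC hij F)) : Mid i j → F := fun k => ((g : SpecialLinearGroup ι F) : Matrix ι ι F) i k
/-- the middle part of column `j` -/
def c (g : ↥(CC hij F)) : Mid i j → F := fun k => ((g : SpecialLinearGroup ι F) : Matrix ι ι F) k j
/-- the corner -/
def s (g : ↥(CC hij F)) : F := ((g : SpecialLinearGroup ι F) : Matrix ι ι F) i j

variable {hij}

theorem jj_eq_one (hF : Fintype.card F = 2) (g : ↥(CC hij F)) :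
    ((g : SpecialLinearGroup ι F) : Matrix ι ι F) j j = 1 := by
  rw [← (mem_CC.1 g.2).eq]
  exact ii_eq_one hF (mem_CC.1 g.2)

theorem R_mul (hF : Fintype.card F = 2) (g h : ↥(CC hij F)) (k : Mid i j) :
    R hij (g * h) k = R hij h k + ∑ l : Mid i j, R hij g l * pi hij h l k := by
  have h1 := Cm.mul_row hij (g := ((g : SpecialLinearGroup ι F) : Matrix ι ι F)) (mem_CC.1 h.2) k
  rw [ii_eq_one hF (mem_CC.1 g.2), one_mul] at h1
  exact h1

theorem c_mul (hF : Fintype.card F = 2) (g h : ↥(CC hij F)) (k : Mid i j) :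
    c hij (g * h) k = c hij g k + ∑ l : Mid i j, pi hij g k l * c hij h l := by
  have h1 := Cm.mul_col hij (h := ((h : SpecialLinearGroup ι F) : Matrix ι ι F)) (mem_CC.1 g.2) k
  rw [jj_eq_one hF h, mul_one] at h1
  exact h1

theorem s_mul (hF : Fintype.card F = 2) (g h : ↥(CC hij F)) :
    s hij (g * h) = s hij h + (s hij g + ∑ l : Mid i j, R hij g l * c hij h l) := by
  have h1 := mul_corner hij ((g : SpecialLinearGroup ι F) : Matrix ι ι F) ((h : SpecialLinearGroup ι F) : Matrix ι ι F)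
  rw [ii_eq_one hF (mem_CC.1 g.2), jj_eq_one hF h, one_mul, mul_one] at h1
  exact h1

theorem ext_C (hF : Fintype.card F = 2) {g h : ↥(CC hij F)} (h1 : pi hij g = pi hij h) (h2 : R hij g = R hij h)
    (h3 : c hij g = c hij h) (h4 : s hij g = s hij h) : g = h := by
  apply Subtype.ext
  apply Subtype.ext
  refine Cm.ext_iff (mem_CC.1 g.2) (mem_CC.1 h.2) ?_ h1 (fun k => congrFun h2 k) (fun k => congrFun h3 k) h4
  rw [ii_eq_one hF (mem_CC.1 g.2), ii_eq_one hF (mem_CC.1 h.2)]

theorem one_R : R hij (1 : ↥(CC hij F)) = 0 := by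
  funext k
  exact Matrix.one_apply_ne (Ne.symm k.2.1)

theorem one_c : c hij (1 : ↥(CC hij F)) = 0 := by
  funext k
  exact Matrix.one_apply_ne k.2.2

theorem one_s : s hij (1 : ↥(CC hij F)) = 0 := Matrix.one_apply_ne hij

theorem mem_Q {g : ↥(CC hij F)} : g ∈ Q hij ↔ pi hij g = 1 := MonoidHom.mem_ker

theorem R_mul_Q (hF : Fintype.card F = 2) {g h : ↥(CC hij F)} (hh : h ∈ Q hij) : R hij (g * h) = R hij g + R hij h := by
  classical
  funext k
  rw [R_mul hF, mem_Q.1 hh, Pi.add_apply, add_comm]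
  congr 1
  simp [Matrix.one_apply]

theorem c_mul_Q (hF : Fintype.card F = 2) {g h : ↥(CC hij F)} (hg : g ∈ Q hij) : c hij (g * h) = c hij g + c hij h := by
  classical
  funext k
  rw [c_mul hF, mem_Q.1 hg, Pi.add_apply]
  congr 1
  simp [Matrix.one_apply]

/-! ### root elements in `Q` -/

theorem tv_row_mem {k : ι} (hki : k ≠ i) (x : F) : tv (Ne.symm hki) x ∈ CC hij F := by
  rw [mem_CC]
  refine ⟨fun a ha => ?_, fun b hb => ?_, ?_⟩
  · rw [tv_coe, tv_apply, if_neg ha, if_neg (fun h => hki h.2), add_zero]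
  · rw [tv_coe, tv_apply, if_neg (Ne.symm hb), if_neg (fun h => hij h.1), add_zero]
  · rw [tv_coe, tv_apply, tv_apply, if_pos rfl, if_pos rfl, if_neg (fun h => hki h.2), if_neg (fun h => hij h.1)]

theorem tv_col_mem {k : ι} (hkj : k ≠ j) (x : F) : tv hkj x ∈ CC hij F := by
  rw [mem_CC]
  refine ⟨fun a ha => ?_, fun b hb => ?_, ?_⟩
  · rw [tv_coe, tv_apply, if_neg ha, if_neg (fun h => hij h.2.symm), add_zero]
  · rw [tv_coe, tv_apply, if_neg (Ne.symm hb), if_neg (fun h => hkj h.1), add_zero]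
  · rw [tv_coe, tv_apply, tv_apply, if_pos rfl, if_pos rfl, if_neg (fun h => hij h.2.symm), if_neg (fun h => hkj h.1)]

/-- `x_ik(1)` -/
def xr (F : Type*) [Field F] [Fintype F] (hij : i ≠ j) (k : Mid i j) : ↥(CC hij F) := ⟨tv (Ne.symm k.2.1) 1, tv_row_mem k.2.1 1⟩
/-- `x_kj(1)` -/
def xc (F : Type*) [Field F] [Fintype F] (hij : i ≠ j) (k : Mid i j) : ↥(CC hij F) := ⟨tv k.2.2 1, tv_col_mem k.2.2 1⟩
/-- `x_ij(1)` -/
def T0 (F : Type*) [Field F] [Fintype F] (hij : i ≠ j) : ↥(CC hij F) := ⟨tv hij 1, tv_col_mem hij 1⟩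

theorem xr_Q (k : Mid i j) : xr F hij k ∈ Q hij := by
  rw [mem_Q]
  ext a b
  rw [pi_apply]
  change (transvection i (k : ι) (1 : F) : Matrix ι ι F) a b = _
  rw [one_mid, tv_apply, if_neg (c := _ ∧ _) (fun h => a.2.1 h.1.symm), add_zero]

theorem xc_Q (k : Mid i j) : xc F hij k ∈ Q hij := by
  rw [mem_Q]
  ext a b
  rw [pi_apply]
  change (transvection (k : ι) j (1 : F) : Matrix ι ι F) a b = _
  rw [one_mid, tv_apply, if_neg (c := _ ∧ _) (fun h => b.2.2 h.2.symm), add_zero]

theorem T0_Q : T0 F hij ∈ Q hij := by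
  rw [mem_Q]
  ext a b
  rw [pi_apply]
  change (transvection i j (1 : F) : Matrix ι ι F) a b = _
  rw [one_mid, tv_apply, if_neg (c := _ ∧ _) (fun h => b.2.2 h.2.symm), add_zero]

theorem R_xr (k : Mid i j) : R hij (xr F hij k) = Pi.single k 1 := by
  funext l
  change (transvection i (k : ι) (1 : F) : Matrix ι ι F) i l = _
  rw [tv_apply, if_neg (Ne.symm l.2.1), zero_add, Pi.single_apply]
  simp only [Subtype.ext_iff, true_and]
  by_cases h : (k : ι) = l
  · rw [if_pos h, if_pos h.symm]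
  · rw [if_neg h, if_neg (Ne.symm h)]

theorem c_xr (k : Mid i j) : c hij (xr F hij k) = 0 := by
  funext l
  change (transvection i (k : ι) (1 : F) : Matrix ι ι F) l j = 0
  rw [tv_apply, if_neg l.2.2, if_neg (fun h => l.2.1 h.1.symm), zero_add]

theorem s_xr (k : Mid i j) : s hij (xr F hij k) = 0 := by
  change (transvection i (k : ι) (1 : F) : Matrix ι ι F) i j = 0
  rw [tv_apply, if_neg hij, if_neg (fun h => k.2.2 h.2), zero_add]

theorem R_xc (k : Mid i j) : R hij (xc F hij k) = 0 := by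
  funext l
  change (transvection (k : ι) j (1 : F) : Matrix ι ι F) i l = 0
  rw [tv_apply, if_neg (Ne.symm l.2.1), if_neg (fun h => l.2.2 h.2.symm), zero_add]

theorem c_xc (k : Mid i j) : c hij (xc F hij k) = Pi.single k 1 := by
  funext l
  change (transvection (k : ι) j (1 : F) : Matrix ι ι F) l j = _
  rw [tv_apply, if_neg l.2.2, zero_add, Pi.single_apply]
  simp only [Subtype.ext_iff, and_true]
  by_cases h : (k : ι) = l
  · rw [if_pos h, if_pos h.symm]
  · rw [if_neg h, if_neg (Ne.symm h)]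

theorem s_xc (k : Mid i j) : s hij (xc F hij k) = 0 := by
  change (transvection (k : ι) j (1 : F) : Matrix ι ι F) i j = 0
  rw [tv_apply, if_neg hij, if_neg (fun h => k.2.1 h.1), zero_add]

theorem R_T0 : R hij (T0 F hij) = 0 := by
  funext l
  change (transvection i j (1 : F) : Matrix ι ι F) i l = 0
  rw [tv_apply, if_neg (Ne.symm l.2.1), if_neg (fun h => l.2.2 h.2.symm), zero_add]

theorem c_T0 : c hij (T0 F hij) = 0 := by
  funext l
  change (transvection i j (1 : F) : Matrix ι ι F) l j = 0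
  rw [tv_apply, if_neg l.2.2, if_neg (fun h => l.2.1 h.1.symm), zero_add]

theorem s_T0 : s hij (T0 F hij) = 1 := by
  change (transvection i j (1 : F) : Matrix ι ι F) i j = 1
  rw [tv_apply, if_neg hij, if_pos ⟨rfl, rfl⟩, zero_add]

theorem eq_one_or_T0 (hF : Fintype.card F = 2) {g : ↥(CC hij F)} (hg : g ∈ Q hij) (h1 : R hij g = 0)
    (h2 : c hij g = 0) : g = 1 ∨ g = T0 F hij := by
  rcases eq_zero_or_one hF (s hij g) with h | h
  · left
    refine ext_C hF ?_ ?_ ?_ ?_
    · rw [mem_Q.1 hg, map_one]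
    · rw [h1, one_R]
    · rw [h2, one_c]
    · rw [h, one_s]
  · right
    refine ext_C hF ?_ ?_ ?_ ?_
    · rw [mem_Q.1 hg, mem_Q.1 T0_Q]
    · rw [h1, R_T0]
    · rw [h2, c_T0]
    · rw [h, s_T0]

theorem T0_ne_one : T0 F hij ≠ 1 := by
  intro h
  have h1 : s hij (T0 F hij) = s hij (1 : ↥(CC hij F)) := by rw [h]
  rw [s_T0, one_s] at h1
  exact one_ne_zero h1

theorem commute_iff (hF : Fintype.card F = 2) {g h : ↥(CC hij F)} (hg : g ∈ Q hij) (hh : h ∈ Q hij) :
    g * h = h * g ↔ ∑ l, R hij g l * c hij h l = ∑ l, R hij h l * c hij g l := by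
  constructor
  · intro e
    have h1 := s_mul hF g h
    rw [e, s_mul hF h g] at h1
    have h2 : s hij g + s hij h + ∑ l : Mid i j, R hij h l * c hij g l =
        s hij g + s hij h + ∑ l : Mid i j, R hij g l * c hij h l := by
      rw [add_assoc, h1]
      ring
    exact (add_left_cancel h2).symm
  · intro e
    refine ext_C hF ?_ ?_ ?_ ?_
    · rw [map_mul, map_mul, mem_Q.1 hg, mem_Q.1 hh]
    · rw [R_mul_Q hF hh, R_mul_Q hF hg, add_comm]
    · rw [c_mul_Q hF hg, c_mul_Q hF hh, add_comm]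
    · rw [s_mul hF, s_mul hF, e]
      ring

end Cfsg.Agent.H89.TvTwo
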